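import Mathlib

set_option autoImplicit false
set_option backward.isDefEq.respectTransparency false
set_option backward.defeqAttrib.useBackward true
set_option linter.style.haveILetI false

/-!
# Generic smoothness after a finite purely inseparable extension, affine case
-/

universe u

open TensorProduct

namespace Groth.Agent.GenSmooth

variable (k : Type u) [Field k]

theorem exists_pow_includeRight (K : Type u) [Field K] [Algebra k K] [IsPurelyInseparable k K]
    {A : Type u} [CommRing A] [Algebra k A] (x : K ⊗[k] A) :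
    ∃ n > 0, ∃ a : A, (Algebra.TensorProduct.includeRight : A →ₐ[k] K ⊗[k] A) a = x ^ n := by
  obtain ⟨n, hn, a, ha⟩ := IsPurelyInseparable.exists_pow_mem_range_tensorProduct (k := k) (K := K)
    (R := A) (Algebra.TensorProduct.comm k K A x)
  refine ⟨n, hn, a, (Algebra.TensorProduct.comm k K A).injective ?_⟩
  rw [map_pow, ← ha]
  rfl

/-- Over a perfect purely inseparable extension: an element avoiding the minimal primes, away from
which the reduced base change is smooth. -/
theorem exists_basicOpen_smooth (K : Type u) [Field K] [Algebra k K] [IsPurelyInseparable k K]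
    [PerfectField K] {A : Type u} [CommRing A] [Algebra k A] [Algebra.FiniteType k A] :
    ∃ b : A, (∀ q ∈ minimalPrimes A, b ∉ q) ∧
      ∃ (T : Type u) (_ : CommRing T) (_ : Algebra K T) (ψ : K ⊗[k] Localization.Away b →ₐ[K] T),
        Function.Surjective ψ ∧ IsReduced T ∧ Algebra.Smooth K T ∧
          ∀ z, ψ z = 0 → IsNilpotent z := by
  classical
  set R := K ⊗[k] A
  set Rb := R ⧸ nilradical R
  haveI : IsReduced Rb := (Ideal.isRadical_iff_quotient_reduced _).mp (Ideal.radical_isRadical _)
  haveI : IsNoetherianRing A := Algebra.FiniteType.isNoetherianRing k A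
  haveI : Algebra.FiniteType K R := inferInstance
  haveI : Algebra.FiniteType K Rb := Algebra.FiniteType.trans (S := R) inferInstance inferInstance
  haveI : Algebra.FinitePresentation K Rb := Algebra.FinitePresentation.of_finiteType.mp inferInstance
  let ι : A →ₐ[k] Rb := (Ideal.Quotient.mkₐ k (nilradical R)).comp Algebra.TensorProduct.includeRight
  have hpow : ∀ y : Rb, ∃ n > 0, ∃ a, ι a = y ^ n := fun y => by
    obtain ⟨x, rfl⟩ := Ideal.Quotient.mk_surjective y
    obtain ⟨n, hn, a, ha⟩ := exists_pow_includeRight k K x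
    exact ⟨n, hn, a, (congrArg (Ideal.Quotient.mk _) ha).trans (map_pow _ _ _)⟩
  have hkerι : RingHom.ker ι.toRingHom ≤ nilradical A := fun a ha => by
    have h1 : IsNilpotent ((Algebra.TensorProduct.includeRight : A →ₐ[k] R) a) :=
      mem_nilradical.mp (Ideal.Quotient.eq_zero_iff_mem.mp ha)
    obtain ⟨n, hn⟩ := h1
    rw [← map_pow] at hn
    exact mem_nilradical.mpr ⟨n, (map_eq_zero_iff _
      (Algebra.TensorProduct.includeRight_injective (algebraMap k K).injective)).mp hn⟩
  -- the smooth locus as `zeroLocus`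
  obtain ⟨I, hI⟩ := (PrimeSpectrum.isClosed_iff_zeroLocus_ideal _).mp
    (Algebra.isOpen_smoothLocus (R := K) (A := Rb)).isClosed_compl
  have hmin : ∀ q ∈ minimalPrimes A, ¬ I.comap ι.toRingHom ≤ q := by
    intro q hq hle
    haveI : q.IsPrime := Ideal.minimalPrimes_isPrime hq
    obtain ⟨P, hPp, hP⟩ : ∃ P : Ideal Rb, P.IsPrime ∧ P.comap ι.toRingHom = q := by
      obtain ⟨P, hP, -, hPq⟩ := Ideal.exists_comap_eq_of_mem_minimalPrimes (I := (⊥ : Ideal Rb))
        ι.toRingHom q (by
        refine ⟨⟨‹_›, fun a ha => ?_⟩, fun q' hq' hle' => hq.2 ⟨hq'.1, bot_le⟩ hle'⟩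
        obtain ⟨n, hn⟩ := mem_nilradical.mp (hkerι ha)
        exact Ideal.IsPrime.mem_of_pow_mem ‹_› n (hn ▸ q.zero_mem))
      exact ⟨P, hP, hPq⟩
    have hIP : I ≤ P := fun x hx => by
      obtain ⟨n, hn, a, ha⟩ := hpow x
      refine hPp.mem_of_pow_mem n ?_
      rw [← ha]
      have : a ∈ I.comap ι.toRingHom := by
        show ι a ∈ I
        rw [ha]; exact I.pow_mem_of_mem hx n hn
      exact hP.ge (hle this)
    have hPmin : P ∈ minimalPrimes Rb := by
      refine ⟨⟨hPp, bot_le⟩, fun P' hP' hle' x hx => ?_⟩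
      obtain ⟨n, hn, a, ha⟩ := hpow x
      refine hP'.1.mem_of_pow_mem n ?_
      rw [← ha]
      have h1 : a ∈ q := hP.le (show ι a ∈ P from ha ▸ P.pow_mem_of_mem hx n hn)
      haveI := hP'.1
      exact (hq.2 ⟨Ideal.IsPrime.comap ι.toRingHom, bot_le⟩
        ((Ideal.comap_mono hle').trans hP.le) h1 :)
    haveI : Ring.KrullDimLE 0 (Localization.AtPrime P) := .of_isLocalization _ hPmin _
    letI : Field (Localization.AtPrime P) := Ring.KrullDimLE.isField_of_isReduced.toField
    have hsm : (⟨P, hPp⟩ : PrimeSpectrum Rb) ∈ Algebra.smoothLocus K Rb := by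
      haveI : Algebra.EssFiniteType K (Localization.AtPrime P) :=
        Algebra.EssFiniteType.comp K Rb (Localization.AtPrime P)
      show Algebra.FormallySmooth K (Localization.AtPrime P)
      exact Algebra.FormallySmooth.of_perfectField
    have : (⟨P, hPp⟩ : PrimeSpectrum Rb) ∈ PrimeSpectrum.zeroLocus (I : Set Rb) := hIP
    rw [← hI] at this
    exact this hsm
  obtain ⟨b, hbI, hb⟩ : ∃ b ∈ I.comap ι.toRingHom, ∀ q ∈ minimalPrimes A, b ∉ q := by
    by_contra hcon
    push Not at hcon
    have hfin : (minimalPrimes A).Finite := minimalPrimes.finite_of_isNoetherianRing A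
    have hsub : ((I.comap ι.toRingHom : Ideal A) : Set A) ⊆
        ⋃ q ∈ (↑hfin.toFinset : Set (Ideal A)), (q : Set A) := fun a ha => by
      obtain ⟨q, hq, haq⟩ := hcon a ha
      exact Set.mem_iUnion₂.mpr ⟨q, by simpa using hq, haq⟩
    obtain ⟨q, hq, hle⟩ := (Ideal.subset_union_prime ⊤ ⊤ fun q hq _ _ =>
      Ideal.minimalPrimes_isPrime (hfin.mem_toFinset.mp hq)).mp hsub
    exact hmin q (hfin.mem_toFinset.mp hq) hle
  refine ⟨b, hb, Localization.Away (ι b), inferInstance, inferInstance, ?_⟩
  set Ab := Localization.Away b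
  set T := Localization.Away (ι b)
  let φ₀ : A →ₐ[k] T := (IsScalarTower.toAlgHom k Rb T).comp ι
  have hu : ∀ y : Submonoid.powers b, IsUnit (φ₀ y) := by
    rintro ⟨_, n, rfl⟩
    rw [map_pow]
    exact (IsLocalization.Away.algebraMap_isUnit (ι b)).pow n
  let φ : Ab →ₐ[k] T := IsLocalization.liftAlgHom (M := Submonoid.powers b) (f := φ₀) hu
  let ψ : K ⊗[k] Ab →ₐ[K] T :=
    Algebra.TensorProduct.lift (Algebra.ofId K T) φ fun _ _ => .all _ _
  let ρ : R →ₐ[K] K ⊗[k] Ab := Algebra.TensorProduct.map (AlgHom.id K K) (IsScalarTower.toAlgHom k A Ab)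
  have hψρ : ∀ x, ψ (ρ x) = algebraMap Rb T (Ideal.Quotient.mk _ x) := by
    intro x
    induction x using TensorProduct.induction_on with
    | zero => simp
    | tmul c a =>
      show algebraMap K T c * φ (algebraMap A Ab a) = _
      rw [show φ (algebraMap A Ab a) = φ₀ a from IsLocalization.lift_eq _ a]
      show algebraMap K T c * algebraMap Rb T (Ideal.Quotient.mk _ (1 ⊗ₜ a)) = _
      rw [IsScalarTower.algebraMap_apply K Rb T, ← map_mul, IsScalarTower.algebraMap_apply K R Rb,
        Ideal.Quotient.algebraMap_eq, ← map_mul, Algebra.TensorProduct.algebraMap_apply,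
        Algebra.TensorProduct.tmul_mul_tmul]
      simp
      rfl
    | add x y hx hy => simp [hx, hy]
  have hsmooth : Algebra.Smooth K T := by
    refine Algebra.basicOpen_subset_smoothLocus_iff_smooth.mp fun P hP => ?_
    by_contra hPs
    have : P ∈ PrimeSpectrum.zeroLocus (I : Set Rb) := hI ▸ hPs
    exact hP (this hbI)
  refine ⟨ψ, fun y => ?_, ?_, hsmooth, fun z hz => ?_⟩
  · obtain ⟨r, ⟨_, n, rfl⟩, rfl⟩ := IsLocalization.exists_mk'_eq (Submonoid.powers (ι b)) y
    obtain ⟨x, rfl⟩ := Ideal.Quotient.mk_surjective r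
    refine ⟨ρ x * (1 ⊗ₜ IsLocalization.mk' Ab 1 (⟨_, n, rfl⟩ : Submonoid.powers b)), ?_⟩
    rw [eq_comm, IsLocalization.mk'_eq_iff_eq_mul, map_mul, hψρ, mul_assoc]
    conv_lhs => rw [← mul_one (algebraMap Rb T _)]
    congr 1
    show 1 = (algebraMap K T 1 * φ _) * _
    rw [map_one, one_mul]
    rw [show algebraMap Rb T (ι b ^ n) = φ (algebraMap A Ab (b ^ n)) by
      rw [IsLocalization.liftAlgHom_apply, IsLocalization.lift_eq]
      simp [φ₀], ← map_mul, IsLocalization.mk'_spec]
    simp
  · infer_instance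
  · obtain ⟨n, x, hx⟩ : ∃ n x, ρ x = z * (1 ⊗ₜ algebraMap A Ab (b ^ n)) := by
      clear hz
      induction z using TensorProduct.induction_on with
      | zero => exact ⟨0, 0, by simp⟩
      | tmul c a =>
        obtain ⟨a, ⟨_, n, rfl⟩, rfl⟩ := IsLocalization.exists_mk'_eq (Submonoid.powers b) a
        refine ⟨n, c ⊗ₜ a, ?_⟩
        simp only [ρ, Algebra.TensorProduct.map_tmul, AlgHom.coe_id, id_eq,
          IsScalarTower.coe_toAlgHom', Algebra.TensorProduct.tmul_mul_tmul, mul_one]
        exact congrArg (c ⊗ₜ[k] ·) (IsLocalization.mk'_spec Ab a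
          (⟨_, n, rfl⟩ : Submonoid.powers b)).symm
      | add y y' hy hy' =>
        obtain ⟨n, x, hx⟩ := hy
        obtain ⟨n', x', hx'⟩ := hy'
        refine ⟨n + n', x * (1 ⊗ₜ (b ^ n')) + x' * (1 ⊗ₜ (b ^ n)), ?_⟩
        have e : ∀ c : A, ρ ((1 : K) ⊗ₜ[k] c) = (1 : K) ⊗ₜ[k] algebraMap A Ab c := fun c => rfl
        have e2 : ((1 : K) ⊗ₜ[k] algebraMap A Ab (b ^ (n + n'))) =
            ((1 : K) ⊗ₜ[k] algebraMap A Ab (b ^ n)) * ((1 : K) ⊗ₜ[k] algebraMap A Ab (b ^ n')) := by
          rw [Algebra.TensorProduct.tmul_mul_tmul, mul_one, ← map_mul, pow_add]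
        rw [map_add, map_mul, map_mul, hx, hx', e, e, e2]
        ring
    have h1 : algebraMap Rb T (Ideal.Quotient.mk _ x) = 0 := by rw [← hψρ, hx, map_mul, hz, zero_mul]
    obtain ⟨⟨_, m, rfl⟩, hm⟩ := (IsLocalization.map_eq_zero_iff (Submonoid.powers (ι b)) T _).mp h1
    have h2 : IsNilpotent ((1 ⊗ₜ[k] b : R) ^ m * x) := by
      refine mem_nilradical.mp (Ideal.Quotient.eq_zero_iff_mem.mp ?_)
      rw [map_mul, map_pow]; exact hm
    have h3 := h2.map ρ
    rw [map_mul, map_pow, hx] at h3
    have hu' : IsUnit ((1 : K) ⊗ₜ[k] algebraMap A Ab b) :=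
      (IsLocalization.Away.algebraMap_isUnit b).map
        (Algebra.TensorProduct.includeRight : Ab →ₐ[k] K ⊗[k] Ab)
    have e : ρ (1 ⊗ₜ b) = (1 : K) ⊗ₜ[k] algebraMap A Ab b := rfl
    have e' : ((1 : K) ⊗ₜ[k] algebraMap A Ab (b ^ n)) = ((1 : K) ⊗ₜ[k] algebraMap A Ab b) ^ n := by
      rw [map_pow, Algebra.TensorProduct.tmul_pow, one_pow]
    rw [e, e', mul_left_comm] at h3
    obtain ⟨N, hN⟩ := h3
    rw [mul_pow] at hN
    exact ⟨N, (((hu'.pow m).mul (hu'.pow n)).pow N).mul_left_eq_zero.mp hN⟩

/-- A tensor lies over a finite subextension. -/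
theorem exists_finite_subextension (K : Type u) [Field K] [Algebra k K] [Algebra.IsAlgebraic k K]
    {A : Type u} [CommRing A] [Algebra k A] (s : Finset (K ⊗[k] A)) :
    ∃ L : IntermediateField k K, FiniteDimensional k L ∧ ∀ z ∈ s,
      ∃ z' : L ⊗[k] A, Algebra.TensorProduct.map L.val (AlgHom.id k A) z' = z := by
  classical
  induction s using Finset.induction with
  | empty => exact ⟨⊥, inferInstance, by simp⟩
  | insert z s _ ih =>
    obtain ⟨L, hL, hs⟩ := ih
    obtain ⟨S, hS⟩ := TensorProduct.exists_finset z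
    let t : Finset K := S.image Prod.fst
    let L' := L ⊔ IntermediateField.adjoin k (t : Set K)
    haveI : FiniteDimensional k (IntermediateField.adjoin k (t : Set K)) :=
      IntermediateField.finiteDimensional_adjoin fun x _ => Algebra.IsIntegral.isIntegral x
    refine ⟨L', inferInstance, fun y hy => ?_⟩
    rcases Finset.mem_insert.mp hy with rfl | hy
    · refine ⟨∑ p ∈ S.attach, (⟨p.1.1, le_sup_right (a := L) (IntermediateField.subset_adjoin k _
        (Finset.mem_image_of_mem _ p.2))⟩ : L') ⊗ₜ[k] p.1.2, ?_⟩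
      rw [hS, map_sum, ← Finset.sum_attach S]
      simp
    · obtain ⟨z', hz'⟩ := hs y hy
      refine ⟨Algebra.TensorProduct.map (IntermediateField.inclusion (le_sup_left : L ≤ L'))
        (AlgHom.id k A) z', ?_⟩
      rw [← hz', ← AlgHom.comp_apply, ← Algebra.TensorProduct.map_comp]
      rfl

/-- Descending a smooth reduced quotient to an intermediate field. -/
theorem descend_smooth (L K : Type u) [Field L] [Field K] [Algebra k L] [Algebra k K] [Algebra L K]
    [IsScalarTower k L K] {A : Type u} [CommRing A] [Algebra k A] (T : Type u) [CommRing T]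
    [Algebra K T] [IsReduced T] [Algebra.Smooth K T] (ψ : K ⊗[k] A →ₐ[K] T)
    (hψ : Function.Surjective ψ) (hker : ∀ z, ψ z = 0 → IsNilpotent z) (s : Set (K ⊗[k] A))
    (hs : RingHom.ker ψ.toRingHom = Ideal.span s)
    (hLs : ∀ z ∈ s, ∃ z' : L ⊗[k] A,
      Algebra.TensorProduct.map (IsScalarTower.toAlgHom k L K) (AlgHom.id k A) z' = z) :
    ∃ (T' : Type u) (_ : CommRing T') (_ : Algebra L T') (ψ' : L ⊗[k] A →ₐ[L] T'),
      Function.Surjective ψ' ∧ IsReduced T' ∧ Algebra.Smooth L T' ∧
        ∀ z, ψ' z = 0 → IsNilpotent z := by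
  letI : Algebra L T := ((algebraMap K T).comp (algebraMap L K)).toAlgebra
  haveI : IsScalarTower L K T := IsScalarTower.of_algebraMap_eq fun _ => rfl
  set ιL : L ⊗[k] A →ₐ[L] K ⊗[k] A :=
    Algebra.TensorProduct.map (Algebra.ofId L K) (AlgHom.id k A) with hιL
  have hιinj : Function.Injective ιL :=
    Module.Flat.rTensor_preserves_injective_linearMap (M := A)
      (IsScalarTower.toAlgHom k L K).toLinearMap (algebraMap L K).injective
  set N : Ideal (L ⊗[k] A) := RingHom.ker ((ψ.restrictScalars L).comp ιL).toRingHom with hN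
  let j : ((L ⊗[k] A) ⧸ N) →ₐ[L] T :=
    Ideal.Quotient.liftₐ N ((ψ.restrictScalars L).comp ιL) fun x hx => hx
  have hjinj : Function.Injective j := RingHom.lift_injective_of_ker_le_ideal N _ le_rfl
  haveI : IsReduced ((L ⊗[k] A) ⧸ N) := isReduced_of_injective j hjinj
  refine ⟨(L ⊗[k] A) ⧸ N, inferInstance, inferInstance,
    Ideal.Quotient.mkₐ L N, Ideal.Quotient.mk_surjective, ‹_›, ?_, fun z hz => ?_⟩
  · let Φ : K ⊗[L] ((L ⊗[k] A) ⧸ N) →ₐ[K] T :=
      Algebra.TensorProduct.lift (Algebra.ofId K T) j fun _ _ => .all _ _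
    let e := Algebra.TensorProduct.cancelBaseChange k L K K A
    let q : K ⊗[L] (L ⊗[k] A) →ₐ[K] K ⊗[L] ((L ⊗[k] A) ⧸ N) :=
      Algebra.TensorProduct.map (AlgHom.id K K) (Ideal.Quotient.mkₐ L N)
    have hq : Function.Surjective q :=
      LinearMap.lTensor_surjective K (g := (Ideal.Quotient.mkₐ L N).toLinearMap)
        Ideal.Quotient.mk_surjective
    have hcomp : ∀ x, Φ (q x) = ψ (e x) := by
      intro x
      induction x using TensorProduct.induction_on with
      | zero => simp
      | tmul c w =>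
        show algebraMap K T c * ψ (ιL w) = _
        induction w using TensorProduct.induction_on with
        | zero => simp
        | tmul l a =>
          rw [← AlgHom.commutes ψ c, ← map_mul]
          congr 1
          simp [ιL, e, Algebra.ofId_apply, Algebra.smul_def, mul_comm]
        | add y y' hy hy' => simp [TensorProduct.tmul_add, mul_add, hy, hy']
      | add y y' hy hy' => simp [hy, hy']
    have hΦ : Function.Bijective Φ := by
      refine ⟨?_, fun y => ?_⟩
      · rw [injective_iff_map_eq_zero]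
        intro y hy
        obtain ⟨y, rfl⟩ := hq y
        have h1 : e y ∈ RingHom.ker ψ.toRingHom := (hcomp y).symm.trans hy
        rw [hs] at h1
        have h2 : ∀ w ∈ Ideal.span s, q (e.symm w) = 0 := by
          intro w hw
          induction hw using Submodule.span_induction with
          | mem w hw =>
            obtain ⟨w', hw'⟩ := hLs w hw
            have h3 : e (1 ⊗ₜ w') = w := by
              rw [← hw']
              clear hw'
              induction w' using TensorProduct.induction_on with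
              | zero => simp
              | tmul c a => simp [e, Algebra.smul_def]
              | add x y hx hy => simp [TensorProduct.tmul_add, hx, hy]
            have h4 : w' ∈ N := by
              show ψ (ιL w') = 0
              rw [show ιL w' = w from hw']
              exact (hs ▸ Submodule.subset_span hw : w ∈ RingHom.ker ψ.toRingHom)
            rw [← h3, AlgEquiv.symm_apply_apply]
            simp [q, Ideal.Quotient.eq_zero_iff_mem.mpr h4]
          | zero => simp
          | add x y _ _ hx hy => simp [hx, hy]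
          | smul c x _ hx => rw [smul_eq_mul, map_mul, map_mul, hx, mul_zero]
        simpa using h2 _ h1
      · obtain ⟨x, rfl⟩ := hψ y
        exact ⟨q (e.symm x), (hcomp (e.symm x)).trans (by simp)⟩
    haveI : Algebra.Smooth K (K ⊗[L] ((L ⊗[k] A) ⧸ N)) :=
      Algebra.Smooth.of_equiv (AlgEquiv.ofBijective Φ hΦ).symm
    exact Algebra.Smooth.of_smooth_tensorProduct_of_faithfullyFlat K
  · obtain ⟨n, hn⟩ := hker (ιL z) (Ideal.Quotient.eq_zero_iff_mem.mp hz)
    exact ⟨n, (map_eq_zero_iff _ hιinj).mp (by rw [map_pow, hn])⟩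

/-- The affine statement. -/
theorem exists_smooth_affine {A : Type u} [CommRing A] [Algebra k A] [Algebra.FiniteType k A] :
    ∃ b : A, (∀ q ∈ minimalPrimes A, b ∉ q) ∧
      ∃ (k' : Type u) (_ : Field k') (_ : Algebra k k'), Module.Finite k k' ∧
        IsPurelyInseparable k k' ∧
        ∃ (T : Type u) (_ : CommRing T) (_ : Algebra k' T)
          (ψ : k' ⊗[k] Localization.Away b →ₐ[k'] T),
          Function.Surjective ψ ∧ IsReduced T ∧ Algebra.Smooth k' T ∧
            ∀ z, ψ z = 0 → IsNilpotent z := by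
  classical
  let K := perfectClosure k (AlgebraicClosure k)
  obtain ⟨b, hb, T, _, _, ψ, hψ, hT, hsm, hker⟩ := exists_basicOpen_smooth k K (A := A)
  refine ⟨b, hb, ?_⟩
  set Ab := Localization.Away b
  haveI : Algebra.FiniteType k Ab :=
    Algebra.FiniteType.trans (S := A) inferInstance
      (IsLocalization.finiteType_of_monoid_fg (Submonoid.powers b) Ab)
  haveI : IsNoetherianRing (K ⊗[k] Ab) := Algebra.FiniteType.isNoetherianRing K (K ⊗[k] Ab)
  obtain ⟨s, hs⟩ := (IsNoetherian.noetherian (RingHom.ker ψ.toRingHom) :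
    (RingHom.ker ψ.toRingHom).FG)
  obtain ⟨L, hL, hLs⟩ := exists_finite_subextension k K s
  exact ⟨L, inferInstance, inferInstance, hL, inferInstance,
    descend_smooth k L K T ψ hψ hker (s : Set (K ⊗[k] Ab)) hs.symm hLs⟩

end Groth.Agent.GenSmooth
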