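import Mathlib
import Groth.Agent.GenSmooth.Alg

set_option autoImplicit false
set_option backward.isDefEq.respectTransparency false
set_option backward.defeqAttrib.useBackward true
set_option linter.style.haveILetI false

/-!
# Generic smoothness after a finite purely inseparable extension
-/

universe u

open CategoryTheory Limits AlgebraicGeometry TopologicalSpace

namespace Groth.Agent.GenSmooth

/-- A noetherian scheme has a dense affine open. -/
theorem exists_dense_affine (X : Scheme.{u}) [NoetherianSpace X] :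
    ∃ U : X.Opens, IsAffineOpen U ∧ Dense (U : Set X) := by
  classical
  have hfin := NoetherianSpace.finite_irreducibleComponents (α := X)
  let O : Set X → X.Opens := fun Z => ⟨(⋃₀ (irreducibleComponents X \ {Z}))ᶜ, by
    rw [Set.sUnion_eq_biUnion, isOpen_compl_iff]
    exact hfin.sdiff.isClosed_biUnion fun W hW => isClosed_of_mem_irreducibleComponents W hW.1⟩
  have hO : ∀ Z ∈ irreducibleComponents X, closure (O Z : Set X) = Z := fun Z hZ =>
    closure_sUnion_irreducibleComponents_sdiff_singleton hfin Z hZ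
  have hW : ∀ Z : irreducibleComponents X, ∃ W : X.Opens, IsAffineOpen W ∧
      (W : Set X) ⊆ O Z.1 ∧ (W : Set X).Nonempty := fun Z => by
    obtain ⟨x, hx⟩ : (O Z.1 : Set X).Nonempty := by
      by_contra h
      rw [Set.not_nonempty_iff_eq_empty] at h
      have := hO Z.1 Z.2
      rw [h, closure_empty] at this
      exact Z.2.1.nonempty.ne_empty this.symm
    obtain ⟨_, ⟨W, hW, rfl⟩, hxW, hWO⟩ :=
      X.isBasis_affineOpens.exists_subset_of_mem_open hx (O Z.1).2
    exact ⟨W, hW, hWO, x, hxW⟩
  choose W hWaff hWO hWne using hW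
  haveI := hfin.to_subtype
  refine ⟨⨆ Z, W Z, IsAffineOpen.iSup_of_disjoint hWaff fun Z Z' hne => ?_, ?_⟩
  · rw [Function.onFun, ← Opens.coe_disjoint, Set.disjoint_left]
    intro x hx hx'
    have h1 := hWO Z hx
    have h2 := hWO Z' hx'
    simp only [O, Opens.coe_mk, Set.mem_compl_iff, Set.mem_sUnion, not_exists, not_and] at h1 h2
    obtain ⟨C, hC, hxC⟩ : ∃ C ∈ irreducibleComponents X, x ∈ C :=
      ⟨_, irreducibleComponent_mem_irreducibleComponents x, mem_irreducibleComponent⟩
    by_cases hCZ : C = Z.1
    · exact h2 C ⟨hC, fun h => hne (Subtype.ext (hCZ.symm.trans h))⟩ hxC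
    · exact h1 C ⟨hC, hCZ⟩ hxC
  · intro x
    let Z : irreducibleComponents X :=
      ⟨_, irreducibleComponent_mem_irreducibleComponents x⟩
    have hsub : (W Z : Set X) ⊆ Z.1 := fun y hy => by
      rw [← hO Z.1 Z.2]; exact subset_closure (hWO Z hy)
    refine closure_mono (SetLike.coe_subset_coe.mpr (le_iSup W Z : W Z ≤ _)) ?_
    exact (subset_closure_inter_of_isPreirreducible_of_isOpen Z.2.1.isPreirreducible (W Z).2
      ((hWne Z).imp fun y hy => ⟨hsub hy, hy⟩)).trans (closure_mono Set.inter_subset_right)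
      mem_irreducibleComponent

theorem exists_smooth_reduced (k : Type u) [Field k] {X : Scheme.{u}}
    (f : X ⟶ Spec (CommRingCat.of k)) [LocallyOfFiniteType f] [QuasiCompact f] :
    ∃ (U : X.Opens) (_ : Dense (U : Set X)) (k' : Type u) (_ : Field k') (_ : Algebra k k')
      (_ : Module.Finite k k') (_ : IsPurelyInseparable k k') (Z : Scheme.{u}) (_ : IsReduced Z)
      (i : Z ⟶ pullback (U.ι ≫ f) (Spec.map (CommRingCat.ofHom (algebraMap k k')))),
      IsClosedImmersion i ∧ Function.Surjective i.base ∧
      Smooth (i ≫ pullback.snd (U.ι ≫ f) (Spec.map (CommRingCat.ofHom (algebraMap k k')))) := by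
  haveI : IsLocallyNoetherian X := LocallyOfFiniteType.isLocallyNoetherian f
  haveI : CompactSpace X := QuasiCompact.compactSpace_of_compactSpace f
  haveI : IsNoetherian X := {}
  obtain ⟨U₀, hU₀, hU₀d⟩ := exists_dense_affine X
  let A : Type u := Γ(X, U₀)
  let φ : CommRingCat.of k ⟶ Γ(X, U₀) := Spec.preimage (hU₀.fromSpec ≫ f)
  letI : Algebra k A := φ.hom.toAlgebra
  haveI : Algebra.FiniteType k A := by
    have h : LocallyOfFiniteType (Spec.map φ) := by rw [Spec.map_preimage]; infer_instance
    exact (HasRingHomProperty.Spec_iff (P := @LocallyOfFiniteType)).mp h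
  obtain ⟨b, hb, k', _, _, hfin, hpi, T, _, _, ψ, hψ, hT, hsm, hker⟩ :=
    exists_smooth_affine k (A := A)
  let j : Spec (CommRingCat.of (Localization.Away b)) ⟶ X :=
    Spec.map (CommRingCat.ofHom (algebraMap A (Localization.Away b))) ≫ hU₀.fromSpec
  haveI : IsOpenImmersion (Spec.map (CommRingCat.ofHom (algebraMap A (Localization.Away b)))) :=
    IsOpenImmersion.of_isLocalization b
  haveI : IsOpenImmersion j := inferInstance
  have hj : j ≫ f = Spec.map (CommRingCat.ofHom (algebraMap k (Localization.Away b))) := by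
    rw [IsScalarTower.algebraMap_eq k A (Localization.Away b), CommRingCat.ofHom_comp,
      Spec.map_comp, Category.assoc, ← Spec.map_preimage (hU₀.fromSpec ≫ f)]
    rfl
  let U : X.Opens := j.opensRange
  have hUd : Dense (U : Set X) := by
    intro x
    have hsub : (U₀ : Set X) ⊆ closure (U : Set X) := fun y hy => by
      obtain ⟨P, rfl⟩ : ∃ P, hU₀.fromSpec P = y := by
        have : y ∈ Set.range hU₀.fromSpec := by rw [hU₀.range_fromSpec]; exact hy
        exact this
      obtain ⟨q, hq, hqP⟩ := Ideal.exists_minimalPrimes_le (J := P.asIdeal) (bot_le : (⊥ : Ideal A) ≤ _)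
      let Q : PrimeSpectrum A := ⟨q, hq.1.1⟩
      have hQ : hU₀.fromSpec Q ∈ (U : Set X) := by
        have : Q ∈ Set.range (PrimeSpectrum.comap (algebraMap A (Localization.Away b))) := by
          rw [PrimeSpectrum.localization_away_comap_range (Localization.Away b) b]
          exact hb q hq
        obtain ⟨Q', hQ'⟩ := this
        exact ⟨Q', by rw [← hQ']; rfl⟩
      have hs : hU₀.fromSpec Q ⤳ hU₀.fromSpec P :=
        Specializes.map ((PrimeSpectrum.le_iff_specializes Q P).mp hqP) hU₀.fromSpec.continuous
      exact hs.mem_closed isClosed_closure (subset_closure hQ)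
    exact closure_minimal hsub isClosed_closure (hU₀d x)
  let e : Spec (CommRingCat.of (Localization.Away b)) ≅ (U : Scheme.{u}) := j.isoOpensRange
  have he : e.hom ≫ U.ι = j := j.isoOpensRange_hom_ι
  let s' := Spec.map (CommRingCat.ofHom (algebraMap k k'))
  let c : pullback (Spec.map (CommRingCat.ofHom (algebraMap k (Localization.Away b)))) s' ⟶
      pullback (U.ι ≫ f) s' :=
    pullback.map _ _ _ _ e.hom (𝟙 _) (𝟙 _) (by rw [Category.comp_id, ← Category.assoc, he, hj])
      (by simp)
  haveI : IsIso c := pullback.map_isIso ..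
  let i : Spec (CommRingCat.of T) ⟶ pullback (U.ι ≫ f) s' :=
    Spec.map (CommRingCat.ofHom ψ.toRingHom) ≫ (pullbackSpecIso k k' (Localization.Away b)).inv ≫
      (pullbackSymmetry _ _).hom ≫ c
  haveI : IsClosedImmersion (Spec.map (CommRingCat.ofHom ψ.toRingHom)) :=
    IsClosedImmersion.spec_of_surjective _ hψ
  haveI : Surjective (Spec.map (CommRingCat.ofHom ψ.toRingHom)) := by
    refine ⟨fun x => ?_⟩
    have hr : Set.range (PrimeSpectrum.comap ψ.toRingHom) = Set.univ := by
      rw [range_comap_of_surjective _ _ hψ, PrimeSpectrum.zeroLocus_eq_univ_iff]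
      exact fun z hz => mem_nilradical.mpr (hker z hz)
    obtain ⟨y, hy⟩ := hr.symm ▸ Set.mem_univ x
    exact ⟨y, hy⟩
  haveI : _root_.IsReduced T := hT
  refine ⟨U, hUd, k', inferInstance, inferInstance, hfin, hpi, Spec (CommRingCat.of T),
    inferInstance, i, inferInstance, (inferInstance : Surjective i).surj, ?_⟩
  have hi : i ≫ pullback.snd (U.ι ≫ f) s' =
      Spec.map (CommRingCat.ofHom (algebraMap k' T)) := by
    simp only [i, c, s', Category.assoc, pullback.lift_snd, Category.comp_id]
    rw [pullbackSymmetry_hom_comp_snd, pullbackSpecIso_inv_fst, ← Spec.map_comp]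
    rw [← CommRingCat.ofHom_comp]
    congr 2
    ext x
    exact ψ.commutes x
  show Smooth (i ≫ pullback.snd (U.ι ≫ f) s')
  rw [hi, HasRingHomProperty.Spec_iff (P := @Smooth), CommRingCat.hom_ofHom,
    RingHom.smooth_algebraMap]
  exact hsm

end Groth.Agent.GenSmooth
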