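import Groth.Agent.GenSmooth.Rat
import Groth.Agent.S7993
import Mathlib.AlgebraicGeometry.Fiber

/-!
The generic fibre of the quotient by a pair of smooth maps is smooth.
-/

set_option autoImplicit false

universe u

open CategoryTheory CategoryTheory.Limits AlgebraicGeometry TopologicalSpace

namespace Groth.Agent.GenSmooth

theorem formallySmooth_congr {A B : Scheme.{u}} {p q : A ⟶ B} (h : p = q) (x : A) :
    (p.stalkMap x).hom.FormallySmooth ↔ (q.stalkMap x).hom.FormallySmooth := by
  subst h; rfl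

theorem isIso_stalkMap_of_isField {A B : Scheme.{u}} (i : A ⟶ B) [IsPreimmersion i] (x : A)
    (h : IsField (B.presheaf.stalk (i x))) : IsIso (i.stalkMap x) := by
  letI := h.toField
  haveI : IsPreimmersion i := inferInstance
  exact (ConcreteCategory.isIso_iff_bijective _).mpr
    ⟨RingHom.injective (i.stalkMap x).hom, i.stalkMap_surjective x⟩

theorem smooth_genericFibre {P X Y : Scheme.{u}} [IsIntegral X] [IsIntegral Y] (s t : P ⟶ X)
    [Smooth s] [Smooth t] (φ : X ⟶ Y) [LocallyOfFiniteType φ] (hsurj : Function.Surjective φ)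
    (hopen : IsOpenMap φ) (w : s ≫ φ = t ≫ φ)
    (horb : ∀ x x' : X, φ x = φ x' → ∃ z : P, s z = x ∧ t z = x')
    (hsec : ∀ (U : Y.Opens) (f : Γ(X, φ ⁻¹ᵁ U)),
      s.appLE (φ ⁻¹ᵁ U) (s ⁻¹ᵁ (φ ⁻¹ᵁ U) ⊓ t ⁻¹ᵁ (φ ⁻¹ᵁ U)) inf_le_left f =
        t.appLE (φ ⁻¹ᵁ U) (s ⁻¹ᵁ (φ ⁻¹ᵁ U) ⊓ t ⁻¹ᵁ (φ ⁻¹ᵁ U)) inf_le_right f →
        f ∈ Set.range (φ.app U)) :
    Smooth (φ.fiberToSpecResidueField (genericPoint Y)) := by
  haveI : IsReduced P := Groth.Agent.ASp.isReduced_of_smooth s
  set η := genericPoint Y with hη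
  have hξ : φ (genericPoint X) = η := by
    have h1 := (genericPoint_spec X).image φ.continuous
    rw [Set.image_univ, hsurj.range_eq, closure_univ] at h1
    exact h1.eq (genericPoint_spec Y)
  have hYF : IsField (Y.presheaf.stalk η) := Field.toIsField Y.functionField
  have hXF : IsField (X.presheaf.stalk (genericPoint X)) := Field.toIsField X.functionField
  have hfs : ∀ x : X, x = genericPoint X → (φ.stalkMap x).hom.FormallySmooth := by
    rintro x rfl
    exact stalkMap_formallySmooth s t φ w hopen horb hsec (by rw [hξ]; exact hYF)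
  let g := φ.fiberToSpecResidueField η
  let i := φ.fiberι η
  haveI : LocallyOfFiniteType g := inferInstanceAs (LocallyOfFiniteType (pullback.snd _ _))
  haveI : LocallyOfFinitePresentation g := inferInstance
  obtain ⟨x₀, hx₀⟩ : genericPoint X ∈ Set.range i := by
    rw [show Set.range i = φ ⁻¹' {η} from φ.range_fiberι η]
    exact hξ
  -- smooth at the generic point
  have hU0 : x₀ ∈ g.smoothLocus := by
    rw [Scheme.Hom.mem_smoothLocus]
    have hc : i ≫ φ = g ≫ Y.fromSpecResidueField η := pullback.condition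
    have h1 : ((i ≫ φ).stalkMap x₀).hom.FormallySmooth := by
      rw [Scheme.Hom.stalkMap_comp]
      haveI := isIso_stalkMap_of_isField i x₀ (by rw [hx₀]; exact hXF)
      exact (RingHom.FormallySmooth.respectsIso.cancel_right_isIso _ (i.stalkMap x₀)).mpr
        (hfs _ hx₀)
    rw [formallySmooth_congr hc, Scheme.Hom.stalkMap_comp] at h1
    haveI := isIso_stalkMap_of_isField (Y.fromSpecResidueField η) (g x₀) (by
      rw [show Y.fromSpecResidueField η (g x₀) = η by
        rw [← Scheme.Hom.comp_apply, ← hc, Scheme.Hom.comp_apply, hx₀, hξ]]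
      exact hYF)
    exact (RingHom.FormallySmooth.respectsIso.cancel_left_isIso
      ((Y.fromSpecResidueField η).stalkMap (g x₀)) _).mp h1
  -- translations
  let Pη := pullback (s ≫ φ) (Y.fromSpecResidueField η)
  let a : Pη ⟶ φ.fiber η :=
    pullback.lift (pullback.fst _ _ ≫ s) (pullback.snd _ _) (by rw [Category.assoc, pullback.condition])
  let b : Pη ⟶ φ.fiber η :=
    pullback.lift (pullback.fst _ _ ≫ t) (pullback.snd _ _) (by rw [Category.assoc, ← w, pullback.condition])
  have ha : IsPullback (pullback.fst (s ≫ φ) (Y.fromSpecResidueField η)) a s i := by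
    refine IsPullback.of_bot (v₂₁ := g) (v₂₂ := φ) ?_ (pullback.lift_fst _ _ _).symm
      (IsPullback.of_hasPullback φ _)
    rw [show a ≫ g = pullback.snd _ _ from pullback.lift_snd _ _ _]
    exact IsPullback.of_hasPullback _ _
  have hb : IsPullback (pullback.fst (s ≫ φ) (Y.fromSpecResidueField η)) b t i := by
    refine IsPullback.of_bot (v₂₁ := g) (v₂₂ := φ) ?_ (pullback.lift_fst _ _ _).symm
      (IsPullback.of_hasPullback φ _)
    rw [show b ≫ g = pullback.snd _ _ from pullback.lift_snd _ _ _, ← w]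
    exact IsPullback.of_hasPullback _ _
  haveI : Smooth a := MorphismProperty.of_isPullback ha inferInstance
  haveI : Smooth b := MorphismProperty.of_isPullback hb inferInstance
  let U := g.smoothLocus
  let V : Pη.Opens := a ⁻¹ᵁ U
  haveI : Smooth (U.ι ≫ g) := by
    rw [← Scheme.Hom.smoothLocus_eq_top_iff, ← Scheme.Hom.preimage_smoothLocus_eq]
    exact Scheme.Opens.ι_preimage_self U
  haveI : Smooth (V.ι ≫ b ≫ g) := by
    have e : V.ι ≫ b ≫ g = (a ∣_ U) ≫ U.ι ≫ g := by
      rw [morphismRestrict_ι_assoc, show b ≫ g = a ≫ g from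
        (pullback.lift_snd _ _ _).trans (pullback.lift_snd _ _ _).symm]
    rw [e]
    haveI : Smooth (a ∣_ U) := IsZariskiLocalAtTarget.restrict (P := @Smooth) (f := a) inferInstance U
    infer_instance
  haveI : Surjective (V.ι ≫ b) := ⟨fun x => by
    have h1 : φ (i x₀) = φ (i x) := by
      have : ∀ y, φ (i y) = η := fun y => by
        have h : i y ∈ Set.range i := ⟨y, rfl⟩
        rw [show Set.range i = φ ⁻¹' {η} from φ.range_fiberι η] at h
        exact h
      rw [this, this]
    obtain ⟨z, hz1, hz2⟩ := horb _ _ h1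
    obtain ⟨p, hp1, hp2⟩ := Scheme.exists_preimage_of_isPullback ha z x₀ hz1
    have hpV : p ∈ V := by
      show a p ∈ U
      rw [hp2]; exact hU0
    refine ⟨⟨p, hpV⟩, i.isEmbedding.injective ?_⟩
    rw [Scheme.Hom.comp_apply]
    calc i (b p) = (b ≫ i) p := rfl
      _ = (pullback.fst (s ≫ φ) (Y.fromSpecResidueField η) ≫ t) p := by
          rw [show b ≫ i = pullback.fst _ _ ≫ t from pullback.lift_fst _ _ _]
      _ = i x := by rw [Scheme.Hom.comp_apply, hp1, hz2]⟩
  haveI : LocallyOfFinitePresentation (V.ι ≫ b ≫ g) := inferInstance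
  exact Groth.Agent.S7993.Groth.Agent.Quot7993.smooth_of_flat_surjective g (V.ι ≫ b ≫ g) (V.ι ≫ b) (Category.assoc _ _ _)

end Groth.Agent.GenSmooth
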